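import Cfsg.Agent.H518.PiB.Co3Fin
import Cfsg.Agent.H465.PiBSSporB
import Cfsg.Agent.H49.CoStab
import Cfsg.Agent.S2069
import Cfsg.Agent.S2070
import Cfsg.Agent.S2071

/-!
# `Inv3` for the Conway groups (helper518, for the sporadic rows with `3 ∉ π` of S3876)

`inv3_co1`, `inv3_co2`, `inv3_co3`: for every automorphism `x` of order two there is `a` with `3 ∣ orderOf (x a * a⁻¹)`.
-/

set_option autoImplicit false

namespace Cfsg.Agent.H518.PiB

open Subgroup Cfsg Cfsg.Agent.H465.SporB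

universe u

/-- transport of `Inv3` -/
theorem Inv3.congr {K L : Type*} [Group K] [Group L] (e : K ≃* L) (h : Inv3 K) : Inv3 L := by
  intro x hx
  obtain ⟨a, ha⟩ := h (MulAut.congr e.symm x) (by rw [MulEquiv.orderOf_eq]; exact hx)
  refine ⟨e a, ?_⟩
  have h1 : x (e a) * (e a)⁻¹ = e ((MulAut.congr e.symm x) a * a⁻¹) := by
    rw [map_mul, map_inv]
    congr 1
    show _ = e (e.symm (x (e.symm.symm a)))
    rw [MulEquiv.apply_symm_apply]
    rfl
  rw [h1, MulEquiv.orderOf_eq]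
  exact ha

theorem inner_of_out {K : Type*} [Group K] (h : Nat.card (Out K) = 1) (x : MulAut K) : ∃ g : K, x = MulAut.conj g := by
  have h1 : (Inn K).index = 1 := h
  rw [Subgroup.index_eq_one] at h1
  have h2 : x ∈ Inn K := h1 ▸ mem_top x
  obtain ⟨g, hg⟩ := h2
  exact ⟨g, hg.symm⟩

theorem center_bot {K : Type*} [Group K] (hs : IsSimpleGroup K) (hn : ¬ (Nat.card K).Prime)
    (h0 : Nat.card K ≠ 0) : center K = ⊥ := by
  haveI : Finite K := Nat.finite_of_card_ne_zero h0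
  rcases hs.eq_bot_or_eq_top_of_normal (center K) inferInstance with h | h
  · exact h
  · exfalso
    letI : CommGroup K := { ‹Group K› with mul_comm := fun a b => (mem_center_iff.1 (h ▸ mem_top b) a) }
    haveI : IsSimpleGroup K := hs
    exact hn IsSimpleGroup.prime_card

/-- groups whose involutions invert elements of order three -/
theorem Inv3.of_i3 {K : Type*} [Group K] (hs : IsSimpleGroup K) (hn : ¬ (Nat.card K).Prime)
    (h0 : Nat.card K ≠ 0) (hout : Nat.card (Out K) = 1) (h : ∀ t : K, orderOf t = 2 → I3 t) : Inv3 K := by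
  haveI : Finite K := Nat.finite_of_card_ne_zero h0
  intro x hx
  obtain ⟨t, rfl⟩ := inner_of_out hout x
  have ht : orderOf t = 2 := by
    rw [← orderOf_injective (MulAut.conj : K →* MulAut K) (Cfsg.Agent.H469.PiBS.conj_injective (center_bot hs hn h0))]
    exact hx
  obtain ⟨g, g1, g2, g3⟩ := h t ht
  refine ⟨g, ?_⟩
  have h1 : MulAut.conj t g * g⁻¹ = g⁻¹ * g⁻¹ := by
    rw [MulAut.conj_apply, g3]
  have h2 : g⁻¹ * g⁻¹ = g := by
    rw [← mul_inv_rev, inv_eq_iff_mul_eq_one, g1]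
  have h3 : orderOf g = 3 := by
    refine orderOf_eq_prime ?_ g2
    rw [pow_succ, pow_two, g1]
  rw [h1, h2, h3]

/-- **`Co1`** -/
theorem inv3_co1 {K : Type*} [Group K] (h : Cfsg.Spor.IsoCo1 K) : Inv3 K := by
  obtain ⟨e⟩ := h
  have hc : Nat.card Spor.Co1 = 4157776806543360000 := Cfsg.Agent.S0399.result.2
  exact Inv3.congr e.symm (Inv3.of_i3 Cfsg.Agent.S0399.result.1 (by rw [hc]; norm_num) (by rw [hc]; norm_num)
    Cfsg.Agent.S2069.result fun t => i3_co1)

/-- **`Co2`** -/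
theorem inv3_co2 {K : Type*} [Group K] (h : Cfsg.Spor.IsoCo2 K) : Inv3 K := by
  obtain ⟨e⟩ := h
  have hc : Nat.card Spor.Co2 = 42305421312000 := Cfsg.Agent.H49.CoStab.card_co2
  refine Inv3.congr e.symm (Inv3.of_i3 Cfsg.Agent.H49.CoStab.simple_co2 (by rw [hc]; norm_num)
    (by rw [hc]; norm_num) Cfsg.Agent.S2070.result fun t ht => ?_)
  have h1 : I3 ((Cfsg.Agent.H49.CoStab.equivSt Spor.leechU).symm t) :=
    i3_co2 Cfsg.Agent.H49.CoStab.norm_U
      (((Cfsg.Agent.H49.CoStab.equivSt Spor.leechU).symm.orderOf_eq t).trans ht)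
  have h2 := h1.map (Cfsg.Agent.H49.CoStab.equivSt Spor.leechU).toMonoidHom
    (fun g _ hg => (Cfsg.Agent.H49.CoStab.equivSt Spor.leechU).injective (hg.trans (map_one _).symm))
  have h3 : (Cfsg.Agent.H49.CoStab.equivSt Spor.leechU).toMonoidHom
      ((Cfsg.Agent.H49.CoStab.equivSt Spor.leechU).symm t) = t :=
    (Cfsg.Agent.H49.CoStab.equivSt Spor.leechU).apply_symm_apply t
  rwa [h3] at h2

/-- **`Co3`** -/
theorem inv3_co3 {K : Type*} [Group K] (h : Cfsg.Spor.IsoCo3 K) : Inv3 K := by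
  obtain ⟨e⟩ := h
  have hc : Nat.card Spor.Co3 = 495766656000 := Cfsg.Agent.H49.CoStab.card_co3
  refine Inv3.congr e.symm (Inv3.of_i3 Cfsg.Agent.H49.CoStab.simple_co3 (by rw [hc]; norm_num)
    (by rw [hc]; norm_num) Cfsg.Agent.S2071.result fun t ht => ?_)
  have h1 : I3 ((Cfsg.Agent.H49.CoStab.equivSt Spor.leechV).symm t) :=
    i3_co3 Cfsg.Agent.H49.CoStab.norm_V
      (((Cfsg.Agent.H49.CoStab.equivSt Spor.leechV).symm.orderOf_eq t).trans ht)
  have h2 := h1.map (Cfsg.Agent.H49.CoStab.equivSt Spor.leechV).toMonoidHom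
    (fun g _ hg => (Cfsg.Agent.H49.CoStab.equivSt Spor.leechV).injective (hg.trans (map_one _).symm))
  have h3 : (Cfsg.Agent.H49.CoStab.equivSt Spor.leechV).toMonoidHom
      ((Cfsg.Agent.H49.CoStab.equivSt Spor.leechV).symm t) = t :=
    (Cfsg.Agent.H49.CoStab.equivSt Spor.leechV).apply_symm_apply t
  rwa [h3] at h2

end Cfsg.Agent.H518.PiB
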