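import Cfsg.Agent.H799.PiBS.Inv3
import Cfsg.Agent.H848.CubeM
import Cfsg.Agent.H377.SporB
import Cfsg.Agent.H961.Rad2M

/-!
# `Inv3` for the Monster, from `Inv3` for the Baby Monster (helper518, S3876)

`C(t) = 2·B` contains `z` and `z t ~ t`.
-/

set_option autoImplicit false
set_option maxRecDepth 100000

namespace Cfsg.Agent.H518.PiB

open Cfsg Subgroup Cfsg.Agent.H799.PiBS
open Cfsg.Agent.MonsterX Cfsg.Agent.MonsterX.InstData Cfsg.Agent.MonsterX.MainPack Cfsg.Agent.MonsterU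
open Cfsg.Agent.MonsterP Cfsg.Agent.MonsterN
open Cfsg.Agent.MonsterX.MainBasic Cfsg.Agent.MonsterX.MainSimple Cfsg.Agent.MonsterX.Model

universe u v

/-- an element of `C(t)` with nontrivial image in `L`, where `Inv3 L` -/
theorem bad_of_cent {G : Type u} [Group G] {L : Type v} [Group L] (hI : Inv3 L) (hL : center L = ⊥) {C : Subgroup G}
    (φ : C →* L) (hφ : Function.Surjective φ) {x : G} (hx : x ∈ C) (hxx : x * x = 1) (h1 : φ ⟨x, hx⟩ ≠ 1) :
    Bad (MulAut.conj x) := by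
  have : Fact (Nat.Prime 2) := ⟨Nat.prime_two⟩
  have h2 : φ ⟨x, hx⟩ * φ ⟨x, hx⟩ = 1 := by
    rw [← map_mul]
    have : (⟨x, hx⟩ : C) * ⟨x, hx⟩ = 1 := Subtype.ext hxx
    rw [this, map_one]
  have h3 : orderOf (MulAut.conj (φ ⟨x, hx⟩)) = 2 := by
    rw [orderOf_injective _ (conj_inj hL)]
    exact orderOf_eq_prime (by rw [pow_two, h2]) h1
  obtain ⟨a, ha⟩ := hI _ h3
  obtain ⟨a', rfl⟩ := hφ a
  refine ⟨(a' : G), ?_⟩
  rw [MulAut.conj_apply, ← map_inv, ← map_inv, ← map_mul, ← map_mul, ← map_mul] at ha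
  have h4 := ha.trans (orderOf_map_dvd φ _)
  rw [← Subgroup.orderOf_coe] at h4
  exact h4

/-- the model -/
theorem inv3_model (hB : Inv3 Cfsg.Spor.BabyMonster) : Inv3 ↥InstData.M.G := by
  have hfin : Finite ↥InstData.M.G := MThirteen.Row.finite
  refine Inv3.of_inner Cfsg.Agent.H961.Rad2M.center_M (fun x => Cfsg.Agent.H848.CubeM.inner_G x) ?_
  intro x hxx hx1
  obtain ⟨t, ht⟩ : ∃ t : ↥InstData.M.G, t = KDone.K.ι KLinkInst.x₀ := ⟨_, rfl⟩
  obtain ⟨g, hg⟩ := ModelB.exists_conj_t LitFin.all.hG LitFin.all.hR KDone.lnk KDone.lft KDone.lnk.x₀_mem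
  rw [← ht] at hg
  have ht2 : orderOf t = 2 := Cfsg.Agent.H377.SporB.orderOf_t (isConj_iff.2 ⟨g, hg⟩)
  have ht1 : t ≠ 1 := by
    rintro h
    rw [h, orderOf_one] at ht2
    norm_num at ht2
  have htt : t * t = 1 := by rw [← pow_two, ← ht2, pow_orderOf_eq_one]
  obtain ⟨q, hq⟩ := KLift.exists_flip KDone.lft KLinkInst.x₀ KDone.lnk.x₀_mem
  have hz1 : KDone.K.z ≠ 1 := by
    intro h
    exact KDone.K.zc_ne (InvTwo.ι_inj KDone.lft (h.trans (map_one _).symm))
  have hzt : KDone.K.z * t = t * KDone.K.z := by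
    rw [ht]
    show KDone.K.ι KDone.K.zc * _ = _ * KDone.K.ι KDone.K.zc
    rw [← map_mul, ← map_mul, KDone.K.zc_comm]
  have hq' : KDone.K.ι q * t * (KDone.K.ι q)⁻¹ = KDone.K.z * t := by
    rw [ht]
    show _ = KDone.K.ι KDone.K.zc * _
    rw [← map_mul, ← map_inv, ← map_mul, hq, map_mul]
  have hzt' : KDone.K.z * t ≠ t := fun h => hz1 (mul_eq_right.1 h)
  have hne : KDone.K.z ≠ t := by
    intro h
    have h1 : KDone.K.ι q * KDone.K.z = KDone.K.z * KDone.K.ι q := by
      show KDone.K.ι q * KDone.K.ι KDone.K.zc = KDone.K.ι KDone.K.zc * KDone.K.ι q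
      rw [← map_mul, ← map_mul, KDone.K.zc_comm]
    rw [← h, h1, mul_inv_cancel_right] at hq'
    exact hz1 (mul_eq_left.1 hq'.symm)
  have hzz : KDone.K.z * KDone.K.z = 1 := by
    have h1 : (KDone.K.z * t) * (KDone.K.z * t) = 1 := by
      rw [← hq']
      calc KDone.K.ι q * t * (KDone.K.ι q)⁻¹ * (KDone.K.ι q * t * (KDone.K.ι q)⁻¹) =
          KDone.K.ι q * (t * t) * (KDone.K.ι q)⁻¹ := by group
        _ = 1 := by rw [htt]; group
    calc KDone.K.z * KDone.K.z = KDone.K.z * KDone.K.z * (t * t) := by rw [htt, mul_one]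
      _ = KDone.K.z * (KDone.K.z * t) * t := by group
      _ = KDone.K.z * (t * KDone.K.z) * t := by rw [hzt]
      _ = (KDone.K.z * t) * (KDone.K.z * t) := by group
      _ = 1 := h1
  -- the centraliser of `t`
  have h0 : IsB Spor.BabyMonster := S1704.result
  have := h0.1
  have := CTwoTab.BInst.finite_B
  obtain ⟨⟨h1, -, ⟨e⟩⟩, -⟩ := ModelB.fieldsKS LitFin.all KDone.lnk KDone.lft (NodesGrp.prel LitFin.H)
    (NodesNe.ne LitFin.H) LitFin.conj_ten Cfsg.Agent.S1704.result KDone.lnk.x₀_mem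
  rw [← ht] at h1 e
  have hcB : center Spor.BabyMonster = ⊥ := CpAut.TwoInner.center_eq_bot_of_card h0.1 (by rw [h0.2]; norm_num)
  let φ : ↥(centralizer ({t} : Set ↥InstData.M.G)) →* Spor.BabyMonster := e.toMonoidHom.comp (QuotientGroup.mk' _)
  have hφ : Function.Surjective φ := e.surjective.comp (QuotientGroup.mk'_surjective _)
  have hker : ∀ u : ↥(centralizer ({t} : Set ↥InstData.M.G)), φ u = 1 → (u : ↥InstData.M.G) = 1 ∨
      (u : ↥InstData.M.G) = t := by
    intro u hu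
    have h3 : u ∈ center ↥(centralizer ({t} : Set ↥InstData.M.G)) := by
      have h5 : e (QuotientGroup.mk' _ u) = e 1 := by
        rw [map_one]
        exact hu
      exact (QuotientGroup.eq_one_iff u).1 (e.injective h5)
    set t' : ↥(centralizer ({t} : Set ↥InstData.M.G)) := ⟨t, mem_centralizer_singleton_iff.2 rfl⟩ with ht'
    have htc : t' ∈ center ↥(centralizer ({t} : Set ↥InstData.M.G)) := by
      rw [mem_center_iff]
      intro g
      apply Subtype.ext
      show (g : ↥InstData.M.G) * t = t * g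
      exact mem_centralizer_singleton_iff.1 g.2
    have ht1' : t' ≠ 1 := fun h => ht1 (congrArg Subtype.val h)
    by_contra hcon
    push Not at hcon
    have hu1 : u ≠ 1 := fun h => hcon.1 (by rw [h]; rfl)
    have hut : u ≠ t' := fun h => hcon.2 (by rw [h])
    have h6 := (Nat.card_eq_two_iff' (1 : ↥(center ↥(centralizer ({t} : Set ↥InstData.M.G))))).1 h1
    obtain ⟨y, -, hy⟩ := h6
    have h7 := hy ⟨u, h3⟩ (fun h => hu1 (congrArg Subtype.val h))
    have h8 := hy ⟨t', htc⟩ (fun h => ht1' (congrArg Subtype.val h))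
    exact hut (congrArg Subtype.val (h7.trans h8.symm))
  have hzc : KDone.K.z ∈ centralizer ({t} : Set ↥InstData.M.G) := mem_centralizer_singleton_iff.2 hzt
  have hztc : KDone.K.z * t ∈ centralizer ({t} : Set ↥InstData.M.G) :=
    mul_mem hzc (mem_centralizer_singleton_iff.2 rfl)
  -- `z` is bad
  have hbz : Bad (MulAut.conj KDone.K.z) := by
    refine bad_of_cent hB hcB φ hφ hzc hzz fun h => ?_
    rcases hker _ h with h2 | h2
    · exact hz1 h2
    · exact hne h2
  -- `t` is bad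
  have hbt : Bad (MulAut.conj t) := by
    refine Bad.inner (s := KDone.K.z * t) ?_ (isConj_iff.2 ⟨(KDone.K.ι q)⁻¹, ?_⟩)
    · refine bad_of_cent hB hcB φ hφ hztc ?_ fun h => ?_
      · calc KDone.K.z * t * (KDone.K.z * t) = KDone.K.z * (t * KDone.K.z) * t := by group
          _ = KDone.K.z * (KDone.K.z * t) * t := by rw [hzt]
          _ = (KDone.K.z * KDone.K.z) * (t * t) := by group
          _ = 1 := by rw [hzz, htt, mul_one]
      · rcases hker _ h with h2 | h2
        · apply hne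
          have h2' : KDone.K.z * t = 1 := h2
          have h3 : KDone.K.z * t * t = 1 * t := by rw [h2']
          rwa [mul_assoc, htt, mul_one, one_mul] at h3
        · exact hzt' h2
    · rw [← hq']
      group
  have hzG : KDone.K.z = zG LitFin.all.hG := Subtype.ext KDone.lnk.z_eq.symm
  rcases LitFin.all.classes x hxx hx1 with ⟨k, hk⟩ | ⟨k, hk⟩
  · rw [← hzG] at hk
    exact Bad.inner hbz (isConj_iff.2 ⟨k, hk⟩)
  · refine Bad.inner hbt (isConj_iff.2 ⟨k * g⁻¹, ?_⟩)
    rw [← hk, ← hg]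
    group

/-- **the Monster** -/
theorem inv3_m (hB : Inv3 Cfsg.Spor.BabyMonster) {K : Type u} [Group K] (h : Cfsg.Spor.IsoM K) : Inv3 K := by
  obtain ⟨e⟩ := h
  obtain ⟨f⟩ := Cfsg.Agent.MonsterP.Equiv.equiv
  exact Inv3.congr (e.trans f) (inv3_model hB)

end Cfsg.Agent.H518.PiB
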