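import Cfsg.Agent.H518.PiB.XiThree
import Cfsg.Agent.CoOneType.ClosingFacts

/-!
# Every involution of `Co1` inverts an element of order three (helper518, S3876)
-/

set_option autoImplicit false

namespace Cfsg.Agent.H518.PiB

open Cfsg Finset Cfsg.Agent.SporadicA.Co0Mono Cfsg.Agent.SporadicStructure.Co0Base
open Cfsg.Agent.SporadicA.Xi Cfsg.Agent.CoOneType.SignFacts
open Cfsg.Agent.SporadicStructure Cfsg.Agent.SporadicStructure.LeechBase
open Cfsg.Agent.SporadicA.GolayBase Cfsg.Agent.SporadicA.GolayPerm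
open Cfsg.Agent.SporadicStructure.M24El
open Cfsg.Agent.Co2Type.Mono Cfsg.Agent.CoOneType.InvMain
open Cfsg.Agent.J4.M24InvolData (P1 P2)
open Cfsg.Agent.SporadicA.Co1Simple (allOne allOne_mem_center)
open Cfsg.Agent.J4.M24Invol (ok_P1 ok_P2 invol_conj)

/-- `t` inverts an element of order three -/
def I3 {K : Type*} [Group K] (t : K) : Prop := ∃ g : K, g * g * g = 1 ∧ g ≠ 1 ∧ t * g * t⁻¹ = g⁻¹

theorem I3.conj {K : Type*} [Group K] {t : K} (h : K) (ht : I3 (h * t * h⁻¹)) : I3 t := by
  obtain ⟨g, g1, g2, g3⟩ := ht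
  refine ⟨h⁻¹ * g * h, ?_, ?_, ?_⟩
  · calc h⁻¹ * g * h * (h⁻¹ * g * h) * (h⁻¹ * g * h) = h⁻¹ * (g * g * g) * h := by group
      _ = 1 := by rw [g1]; group
  · intro h1
    apply g2
    calc g = h * (h⁻¹ * g * h) * h⁻¹ := by group
      _ = 1 := by rw [h1]; group
  · calc t * (h⁻¹ * g * h) * t⁻¹ = h⁻¹ * (h * t * h⁻¹ * g * (h * t * h⁻¹)⁻¹) * h := by group
      _ = (h⁻¹ * g * h)⁻¹ := by rw [g3]; group

theorem I3.map {K L : Type*} [Group K] [Group L] {t : K} (ht : I3 t) (f : K →* L)
    (hf : ∀ g : K, g * g * g = 1 → f g = 1 → g = 1) : I3 (f t) := by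
  obtain ⟨g, g1, g2, g3⟩ := ht
  refine ⟨f g, by rw [← map_mul, ← map_mul, g1, map_one], fun h => g2 (hf g g1 h), ?_⟩
  rw [← map_inv, ← map_mul, ← map_mul, g3, map_inv]

/-- **sign changes invert elements of order three** -/
theorem i3_sign {c : golayCode} (hc0 : wt c ≠ 0) (hc1 : wt c ≠ 24) : I3 (signCo0 c) := by
  classical
  have hw := wt_cases c
  obtain ⟨i, hi⟩ : (sup c).Nonempty := by
    rw [← card_pos]
    have : (sup c).card = wt c := rfl
    omega
  have hcompl : 3 ≤ ((sup c)ᶜ).card := by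
    rw [card_compl]
    have h1 : (sup c).card = wt c := rfl
    have h2 : Fintype.card GolayPt = 24 := by decide
    omega
  obtain ⟨R, hR, hR3⟩ := exists_subset_card_eq hcompl
  have hiR : i ∉ R := fun h => (mem_compl.1 (hR h)) hi
  have hS : (insert i R).card = 4 := by rw [card_insert_of_notMem hiR, hR3]
  have hSc : insert i R ∩ sup c = {i} := by
    ext j
    rw [mem_inter, mem_insert, mem_singleton]
    constructor
    · rintro ⟨h | h, h'⟩
      · exact h
      · exact absurd h' (mem_compl.1 (hR h))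
    · rintro rfl
      exact ⟨Or.inl rfl, hi⟩
  obtain ⟨T, hT, -, ho⟩ := XiThree.exists_sextet_odd c (insert i R) hS (by rw [hSc, card_singleton])
  obtain ⟨m, η, hm⟩ := XiThree.exists_mi hT ho
  exact ⟨XiThree.g hT c, XiThree.g_cube hT hm, XiThree.g_ne_one hT hm, XiThree.sign_g hT⟩

/-- a permutation of order three -/
def Q3 : ℕ := 301356138864551431205595113698410052

theorem ok_Q3 : ok Q3 = true := by decide +kernel

theorem isCode_h : isCode 13978003 = true := by decide +kernel

/-- elements with square `-1` invert elements of order three -/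
theorem i3_neg : I3 (mo 13978003 P2) := by
  have h0 : isCode 0 = true := by decide +kernel
  have ok2 : ok (pcomp P2 Q3) = true := ok_pcomp ok_P2 ok_Q3
  refine ⟨mo 0 Q3, ?_, ?_, ?_⟩
  · rw [mo_mul h0 h0 ok_Q3 ok_Q3, mo_mul (by decide +kernel) h0 (ok_pcomp ok_Q3 ok_Q3) ok_Q3]
    have e1 : 0 ^^^ pimg Q3 0 ^^^ pimg (pcomp Q3 Q3) 0 = 0 := by decide +kernel
    have e2 : pcomp (pcomp Q3 Q3) Q3 = idP := by decide +kernel
    rw [e1, e2, mo_one]
  · intro h
    rw [← mo_one] at h
    have h1 := (mo_inj h0 h0 h).2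
    have h2 := el_inj ok_Q3 ok_idP (by decide +kernel) (by decide +kernel) h1
    exact absurd h2 (by decide +kernel)
  · rw [mul_inv_eq_iff_eq_mul, eq_inv_mul_iff_mul_eq, mo_mul isCode_h h0 ok_P2 ok_Q3,
      mo_mul h0 (by decide +kernel) ok_Q3 ok2]
    have e1 : 0 ^^^ pimg Q3 (13978003 ^^^ pimg P2 0) = 13978003 := by decide +kernel
    have e2 : pcomp Q3 (pcomp P2 Q3) = P2 := by decide +kernel
    rw [e1, e2]

theorem neg_sq : mo 13978003 P2 * mo 13978003 P2 = signCo0 allOne := by
  rw [mo_mul isCode_h isCode_h ok_P2 ok_P2]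
  have e1 : 13978003 ^^^ pimg P2 13978003 = 16777215 := by decide +kernel
  have e2 : pcomp P2 P2 = idP := by decide +kernel
  rw [e1, e2]
  unfold mo
  rw [el_idP, map_one, mul_one, cd_all]

/-- the involutions of `Co0` and the elements with square `-1` invert elements of order three -/
theorem i3_co0 {t : Co0} (h1 : t ≠ 1) (h2 : t ≠ signCo0 allOne) (h : t * t = 1 ∨ t * t = signCo0 allOne) : I3 t := by
  rcases h with h | h
  · obtain ⟨g, c, hg⟩ := conj_sign_of_sq_one t h
    refine I3.conj g ?_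
    rw [hg]
    refine i3_sign ?_ ?_
    · intro hw
      apply h1
      have h3 : c = 0 := by
        apply word_ext
        have h4 : sup c = ∅ := card_eq_zero.1 hw
        have h5 : sup 0 = ∅ := by
          rw [eq_empty_iff_forall_notMem]
          intro i
          rw [notMem_sup]
          rfl
        exact h4.trans h5.symm
      rw [h3, signCo0_zero, mul_inv_eq_one, mul_eq_left] at hg
      exact hg
    · intro hw
      apply h2
      have h3 : c = allOne := by
        apply word_ext
        have h4 : sup c = univ := by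
          rw [← card_eq_iff_eq_univ]
          exact hw.trans (by decide)
        have h5 : sup allOne = univ := by
          rw [eq_univ_iff_forall]
          intro i
          rw [mem_sup]
          rfl
        exact h4.trans h5.symm
      rw [h3, mul_inv_eq_iff_eq_mul, ← sign_allOne_comm, mul_right_inj] at hg
      exact hg
  · obtain ⟨g, hg⟩ := conj_b0_of_sq_neg t h
    obtain ⟨k, hk⟩ := conj_b0_of_sq_neg _ neg_sq
    refine I3.conj (k⁻¹ * g) ?_
    have h3 : k⁻¹ * g * t * (k⁻¹ * g)⁻¹ = mo 13978003 P2 := by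
      calc k⁻¹ * g * t * (k⁻¹ * g)⁻¹ = k⁻¹ * (g * t * g⁻¹) * k := by group
        _ = k⁻¹ * (k * mo 13978003 P2 * k⁻¹) * k := by rw [hg, hk]
        _ = mo 13978003 P2 := by group
    rw [h3]
    exact i3_neg

/-- **the involutions of `Co1`** -/
theorem i3_co1 {x : Spor.Co1} (hx : orderOf x = 2) : I3 x := by
  obtain ⟨t, rfl⟩ := QuotientGroup.mk'_surjective (Subgroup.center Co0) x
  have h1 : t * t ∈ Subgroup.center Co0 := by
    have h2 := pow_orderOf_eq_one (QuotientGroup.mk' (Subgroup.center Co0) t)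
    rw [hx, pow_two, ← map_mul] at h2
    exact (QuotientGroup.eq_one_iff (t * t)).1 h2
  have h3 : t ∉ Subgroup.center Co0 := by
    intro h
    have h4 : QuotientGroup.mk' (Subgroup.center Co0) t = 1 := (QuotientGroup.eq_one_iff t).2 h
    rw [h4, orderOf_one] at hx
    omega
  have hcen : ∀ z : Co0, z ∈ Subgroup.center Co0 → z = 1 ∨ z = signCo0 allOne := fun z =>
    (Cfsg.Agent.CoOneType.ClosingFacts.mem_center_iff z).1
  refine (i3_co0 ?_ ?_ (hcen _ h1)).map (QuotientGroup.mk' (Subgroup.center Co0)) ?_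
  · rintro rfl
    exact h3 (one_mem _)
  · rintro rfl
    exact h3 allOne_mem_center
  · intro g g1 g2
    rcases hcen g ((QuotientGroup.eq_one_iff g).1 g2) with h | h
    · exact h
    · rw [h, signCo0_mul_self, one_mul] at g1
      rw [h, g1]

end Cfsg.Agent.H518.PiB
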