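import Cfsg.Agent.CoOneType.SignFacts
import Cfsg.Agent.CoOneType.InvMain
import Cfsg.Agent.SporadicA.XiSextet
import Cfsg.Agent.S0363

/-!
# Sign changes invert elements of order three of `Co0` (helper518, S3876)

`c` a word, `T` a sextet the tetrads of which meet `c` in an odd number of points: the square `g` of the product of the
sign change on `c` and of the sextet map has order 3 and is inverted by the sign change.
-/

set_option autoImplicit false

namespace Cfsg.Agent.H518.PiB.XiThree

open Cfsg Finset Cfsg.Agent.SporadicA.Co0Mono Cfsg.Agent.SporadicStructure.Co0Base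
open Cfsg.Agent.SporadicA.Xi Cfsg.Agent.CoOneType.SignFacts
open Cfsg.Agent.SporadicStructure Cfsg.Agent.SporadicStructure.LeechBase

/-- the minority points -/
structure Mi (c : golayCode) (T : GolayPt → Fin 6) (m : Fin 6 → GolayPt) (η : Fin 6 → ℤ) : Prop where
  col : ∀ k, T (m k) = k
  sq : ∀ k, η k * η k = 1
  sg : ∀ i, sgn ((c : GolayPt → ZMod 2) i) = if i = m (T i) then -η (T i) else η (T i)

theorem exists_mi {c : golayCode} {T : GolayPt → Fin 6} (hT : IsSextet T) (h : ∀ k, ((fib T k ∩ sup c).card) % 2 = 1) :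
    ∃ m η, Mi c T m η := by
  classical
  have key : ∀ k, ∃ (i : GolayPt) (e : ℤ), T i = k ∧ e * e = 1 ∧ ∀ j, T j = k →
      sgn ((c : GolayPt → ZMod 2) j) = if j = i then -e else e := by
    intro k
    have h1 : (fib T k ∩ sup c).card ≤ 4 := by
      rw [← hT.card k]
      exact card_le_card inter_subset_left
    have h2 := h k
    have h3 : (fib T k ∩ sup c).card = 1 ∨ (fib T k ∩ sup c).card = 3 := by omega
    rcases h3 with h3 | h3
    · obtain ⟨i, hi⟩ := card_eq_one.1 h3
      have hi' : i ∈ fib T k ∩ sup c := by rw [hi]; exact mem_singleton_self i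
      rw [mem_inter, mem_fib] at hi'
      refine ⟨i, 1, hi'.1, by norm_num, fun j hj => ?_⟩
      split_ifs with hji
      · rw [hji, (mem_sup c i).1 hi'.2, sgn_one]
      · have h4 : j ∉ sup c := by
          intro h5
          have h6 : j ∈ fib T k ∩ sup c := mem_inter.2 ⟨mem_fib.2 hj, h5⟩
          rw [hi, mem_singleton] at h6
          exact hji h6
        rw [(notMem_sup c j).1 h4, sgn_zero]
    · have h5 : (fib T k \ sup c).card = 1 := by
        have := card_sdiff_add_card_inter (fib T k) (sup c)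
        rw [h3, hT.card k] at this
        omega
      obtain ⟨i, hi⟩ := card_eq_one.1 h5
      have hi' : i ∈ fib T k \ sup c := by rw [hi]; exact mem_singleton_self i
      rw [mem_sdiff, mem_fib] at hi'
      refine ⟨i, -1, hi'.1, by norm_num, fun j hj => ?_⟩
      split_ifs with hji
      · rw [hji, (notMem_sup c i).1 hi'.2, sgn_zero]
        norm_num
      · have h4 : j ∈ sup c := by
          by_contra h5
          have h6 : j ∈ fib T k \ sup c := mem_sdiff.2 ⟨mem_fib.2 hj, h5⟩
          rw [hi, mem_singleton] at h6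
          exact hji h6
        rw [(mem_sup c j).1 h4, sgn_one]
  choose m η h1 h2 h3 using key
  exact ⟨m, η, h1, h2, fun i => h3 (T i) i rfl⟩

/-- sums over the tetrads -/
abbrev Sm (T : GolayPt → Fin 6) (x : GolayPt → ℤ) (k : Fin 6) : ℤ := ∑ j ∈ fib T k, x j

section

variable {c : golayCode} {T : GolayPt → Fin 6} (hT : IsSextet T) {m : Fin 6 → GolayPt} {η : Fin 6 → ℤ}

/-- the sign of a tetrad in the sextet map -/
def sg (k : Fin 6) : ℤ := if k = 0 then -1 else 1

theorem sg_sq (k : Fin 6) : sg k * sg k = 1 := by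
  unfold sg
  split_ifs <;> norm_num

/-- `w = sign · xi` -/
noncomputable def w (c : golayCode) : Co0 := signCo0 c * xiCo0 T hT

/-- `g = w²` -/
noncomputable def g (c : golayCode) : Co0 := w hT c * w hT c

theorem two_w (v : leechLattice) (i : GolayPt) :
    2 * ((w hT c • v : leechLattice) : GolayPt → ℤ) i =
      sgn ((c : GolayPt → ZMod 2) i) * (sg (T i) * (Sm T v (T i) - 2 * (v : GolayPt → ℤ) i)) := by
  unfold w
  rw [mul_smul, signCo0_smul, signMap_apply, mul_left_comm, two_xiCo0_smul]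
  rfl

/-- a sum over a tetrad with one exceptional term -/
theorem sum_exc (T : GolayPt → Fin 6) (k : Fin 6) (i : GolayPt) (hi : T i = k) (f h : GolayPt → ℤ)
    (hf : ∀ j, T j = k → j ≠ i → f j = h j) : ∑ j ∈ fib T k, f j = (∑ j ∈ fib T k, h j) + (f i - h i) := by
  classical
  have hm : i ∈ fib T k := mem_fib.2 hi
  rw [← add_sum_erase _ f hm, ← add_sum_erase _ h hm]
  have : ∑ j ∈ (fib T k).erase i, f j = ∑ j ∈ (fib T k).erase i, h j :=
    sum_congr rfl fun j hj => hf j (mem_fib.1 (mem_of_mem_erase hj)) (ne_of_mem_erase hj)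
  rw [this]
  ring

theorem two_sum_w (hm : Mi c T m η) (v : leechLattice) (k : Fin 6) :
    2 * Sm T ((w hT c • v : leechLattice) : GolayPt → ℤ) k = 4 * (sg k * η k * (v : GolayPt → ℤ) (m k)) := by
  have h1 : 2 * Sm T ((w hT c • v : leechLattice) : GolayPt → ℤ) k =
      ∑ j ∈ fib T k, sgn ((c : GolayPt → ZMod 2) j) * (sg k * (Sm T v k - 2 * (v : GolayPt → ℤ) j)) := by
    rw [mul_sum]
    refine sum_congr rfl fun j hj => ?_
    rw [two_w, mem_fib.1 hj]
  rw [h1, sum_exc T k (m k) (hm.col k) _ (fun j => η k * (sg k * (Sm T v k - 2 * (v : GolayPt → ℤ) j)))]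
  · have h2 : ∑ j ∈ fib T k, η k * (sg k * (Sm T v k - 2 * (v : GolayPt → ℤ) j)) =
        η k * (sg k * (4 * Sm T v k - 2 * Sm T v k)) := by
      rw [← mul_sum, ← mul_sum, sum_sub_distrib, sum_const, hT.card k, ← mul_sum]
      simp only [nsmul_eq_mul]
      push_cast
      ring
    rw [h2, hm.sg (m k), hm.col k, if_pos rfl]
    ring
  · intro j hj hji
    rw [hm.sg j, hj, if_neg hji]

theorem g_min (hm : Mi c T m η) (v : leechLattice) (k : Fin 6) :
    2 * ((g hT c • v : leechLattice) : GolayPt → ℤ) (m k) = -Sm T v k := by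
  have h1 := two_w hT (c := c) (w hT c • v) (m k)
  have h2 := two_sum_w hT hm v k
  have h3 := two_w hT (c := c) v (m k)
  rw [hm.col] at h1 h3
  rw [hm.sg (m k), hm.col k, if_pos rfl] at h1 h3
  have e1 := hm.sq k
  have e2 := sg_sq k
  have h4 : ((g hT c • v : leechLattice) : GolayPt → ℤ) (m k) =
      ((w hT c • w hT c • v : leechLattice) : GolayPt → ℤ) (m k) := by
    unfold g; rw [mul_smul]
  rw [h4]
  have h5 : 2 * (2 * ((w hT c • w hT c • v : leechLattice) : GolayPt → ℤ) (m k)) = 2 * (-Sm T v k) := by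
    rw [h1]
    calc 2 * (-η k * (sg k * (Sm T ((w hT c • v : leechLattice) : GolayPt → ℤ) k -
          2 * ((w hT c • v : leechLattice) : GolayPt → ℤ) (m k)))) =
        -η k * (sg k * (2 * Sm T ((w hT c • v : leechLattice) : GolayPt → ℤ) k -
          2 * (2 * ((w hT c • v : leechLattice) : GolayPt → ℤ) (m k)))) := by ring
      _ = -η k * (sg k * (4 * (sg k * η k * (v : GolayPt → ℤ) (m k)) -
          2 * (-η k * (sg k * (Sm T v k - 2 * (v : GolayPt → ℤ) (m k)))))) := by rw [h2, h3]
      _ = (η k * η k) * (sg k * sg k) * (-4 * (v : GolayPt → ℤ) (m k) -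
          2 * (Sm T v k - 2 * (v : GolayPt → ℤ) (m k))) := by ring
      _ = 2 * (-Sm T v k) := by rw [e1, e2]; ring
  linarith

theorem g_maj (hm : Mi c T m η) (v : leechLattice) {i : GolayPt} (hi : i ≠ m (T i)) :
    2 * ((g hT c • v : leechLattice) : GolayPt → ℤ) i =
      2 * (v : GolayPt → ℤ) i + 2 * (v : GolayPt → ℤ) (m (T i)) - Sm T v (T i) := by
  set k := T i with hk
  have h1 := two_w hT (c := c) (w hT c • v) i
  have h2 := two_sum_w hT hm v k
  have h3 := two_w hT (c := c) v i
  rw [hm.sg i, if_neg hi, ← hk] at h1 h3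
  have e1 := hm.sq k
  have e2 := sg_sq k
  have h4 : ((g hT c • v : leechLattice) : GolayPt → ℤ) i =
      ((w hT c • w hT c • v : leechLattice) : GolayPt → ℤ) i := by
    unfold g; rw [mul_smul]
  rw [h4]
  have h5 : 2 * (2 * ((w hT c • w hT c • v : leechLattice) : GolayPt → ℤ) i) =
      2 * (2 * (v : GolayPt → ℤ) i + 2 * (v : GolayPt → ℤ) (m k) - Sm T v k) := by
    rw [h1]
    calc 2 * (η k * (sg k * (Sm T ((w hT c • v : leechLattice) : GolayPt → ℤ) k -
          2 * ((w hT c • v : leechLattice) : GolayPt → ℤ) i))) =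
        η k * (sg k * (2 * Sm T ((w hT c • v : leechLattice) : GolayPt → ℤ) k -
          2 * (2 * ((w hT c • v : leechLattice) : GolayPt → ℤ) i))) := by ring
      _ = η k * (sg k * (4 * (sg k * η k * (v : GolayPt → ℤ) (m k)) -
          2 * (η k * (sg k * (Sm T v k - 2 * (v : GolayPt → ℤ) i))))) := by rw [h2, h3]
      _ = (η k * η k) * (sg k * sg k) * (4 * (v : GolayPt → ℤ) (m k) -
          2 * (Sm T v k - 2 * (v : GolayPt → ℤ) i)) := by ring
      _ = 2 * (2 * (v : GolayPt → ℤ) i + 2 * (v : GolayPt → ℤ) (m k) - Sm T v k) := by rw [e1, e2]; ring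
  linarith

theorem g_sum (hm : Mi c T m η) (v : leechLattice) (k : Fin 6) :
    Sm T ((g hT c • v : leechLattice) : GolayPt → ℤ) k = 2 * (v : GolayPt → ℤ) (m k) - Sm T v k := by
  have h1 : 2 * Sm T ((g hT c • v : leechLattice) : GolayPt → ℤ) k =
      ∑ j ∈ fib T k, 2 * ((g hT c • v : leechLattice) : GolayPt → ℤ) j := by
    rw [mul_sum]
  rw [sum_exc T k (m k) (hm.col k) _
    (fun j => 2 * (v : GolayPt → ℤ) j + 2 * (v : GolayPt → ℤ) (m k) - Sm T v k)] at h1
  · rw [g_min hT hm v k] at h1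
    have h2 : ∑ j ∈ fib T k, (2 * (v : GolayPt → ℤ) j + 2 * (v : GolayPt → ℤ) (m k) - Sm T v k) =
        2 * Sm T v k + 8 * (v : GolayPt → ℤ) (m k) - 4 * Sm T v k := by
      rw [sum_sub_distrib, sum_add_distrib, ← mul_sum, sum_const, sum_const, hT.card k]
      simp only [nsmul_eq_mul]
      push_cast
      ring
    rw [h2] at h1
    linarith
  · intro j hj hji
    have h2 := g_maj hT hm v (i := j) (by rw [hj]; exact hji)
    rwa [hj] at h2

/-- **`g` has order 3** -/
theorem g_cube (hm : Mi c T m η) : g hT c * g hT c * g hT c = 1 := by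
  apply co0_ext
  intro v
  rw [mul_smul, mul_smul, one_smul]
  apply Subtype.ext
  funext i
  set G := g hT c with hG
  have s0 := g_sum hT hm v (T i)
  have s1 := g_sum hT hm (G • v) (T i)
  have a0 := g_min hT hm v (T i)
  have a1 := g_min hT hm (G • v) (T i)
  have a2 := g_min hT hm (G • G • v) (T i)
  rw [← hG] at s0 s1 a0 a1 a2
  by_cases hi : i = m (T i)
  · rw [← hi] at a0 a1 a2 s0 s1
    linarith
  · have b0 := g_maj hT hm v hi
    have b1 := g_maj hT hm (G • v) hi
    have b2 := g_maj hT hm (G • G • v) hi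
    rw [← hG] at b0 b1 b2
    linarith

theorem g_ne_one (hm : Mi c T m η) : g hT c ≠ 1 := by
  intro h
  have h1 := g_min hT hm (e8 (m 0)) 0
  rw [h, one_smul] at h1
  have h2 : Sm T ((e8 (m 0) : leechLattice) : GolayPt → ℤ) 0 = 8 := by
    show ∑ j ∈ fib T 0, ((e8 (m 0) : leechLattice) : GolayPt → ℤ) j = 8
    rw [sum_exc T 0 (m 0) (hm.col 0) _ (fun _ => 0)]
    · rw [sum_const_zero, e8_coe]
      simp
    · intro j _ hji
      rw [e8_coe]
      simp [hji]
  rw [h2, e8_coe] at h1
  simp at h1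

theorem xi_mul_self : xiCo0 T hT * xiCo0 T hT = 1 := by
  apply co0_ext
  intro v
  rw [mul_smul, one_smul]
  exact Subtype.ext (xiFun_xiFun hT v.2)

theorem sign_g : signCo0 c * g hT c * (signCo0 c)⁻¹ = (g hT c)⁻¹ := by
  have h1 := signCo0_mul_self c
  have h2 := xi_mul_self hT
  unfold g w
  rw [eq_inv_iff_mul_eq_one, signCo0_inv]
  calc signCo0 c * (signCo0 c * xiCo0 T hT * (signCo0 c * xiCo0 T hT)) * signCo0 c *
        (signCo0 c * xiCo0 T hT * (signCo0 c * xiCo0 T hT)) =
      (signCo0 c * signCo0 c) * xiCo0 T hT * signCo0 c * (xiCo0 T hT * (signCo0 c * signCo0 c) * xiCo0 T hT) *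
        signCo0 c * xiCo0 T hT := by group
    _ = 1 := by
      rw [h1, one_mul, mul_one, h2, mul_one, mul_assoc (xiCo0 T hT), h1, mul_one, h2]

/-- the vectors fixed by `g` -/
theorem g_fix (hm : Mi c T m η) {v : leechLattice} (h0 : ∀ k, (v : GolayPt → ℤ) (m k) = 0)
    (h1 : ∀ k, Sm T v k = 0) : g hT c • v = v := by
  apply Subtype.ext
  funext i
  by_cases hi : i = m (T i)
  · have h2 := g_min hT hm v (T i)
    rw [h1, ← hi] at h2
    have h3 := h0 (T i)
    rw [← hi] at h3
    rw [h3]
    linarith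
  · have h2 := g_maj hT hm v hi
    rw [h1, h0] at h2
    linarith

end

/-- a tetrad meeting `c` in an odd number of points -/
theorem exists_sextet_odd (c : golayCode) (S : Finset GolayPt) (hS : S.card = 4) (ho : (S ∩ sup c).card % 2 = 1) :
    ∃ (T : GolayPt → Fin 6) (_ : IsSextet T), fib T 0 = S ∧ ∀ k, ((fib T k ∩ sup c).card) % 2 = 1 := by
  classical
  obtain ⟨T, hT, hT0⟩ := Cfsg.Agent.SporadicA.XiSextet.exists_isSextet Cfsg.Agent.S0363.result S hS
  refine ⟨T, hT, hT0, fun k => ?_⟩
  set z : GolayPt → ℤ := fun i => if i ∈ sup c then 1 else 0 with hz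
  have hred : red z = (c : GolayPt → ZMod 2) := by
    funext i
    rw [red_apply, hz]
    by_cases hi : i ∈ sup c
    · simp only [hi, if_true]
      rw [(mem_sup c i).1 hi]
      norm_num
    · simp only [hi, if_false]
      rw [(notMem_sup c i).1 hi]
      norm_num
  obtain ⟨b, hb⟩ := fib_parity hT (z := z) (by rw [hred]; exact c.2) k
  have hc : ∀ k, ∑ p ∈ fib T k, z p = ((fib T k ∩ sup c).card : ℤ) := by
    intro k
    rw [hz, sum_ite_mem, sum_const]
    simp
  rw [hc, hc, hT0] at hb
  omega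

end Cfsg.Agent.H518.PiB.XiThree
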